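import Groth.Agent.Lib.PtSky9.Stalk
import Groth.Agent.Lib.KerId9.Supp
import Groth.Agent.Lib.PtBd9.Vanish
import Groth.Agent.Lib.FMAdj9.PointShift
import Groth.Agent.Lib.DPush9.Tilde
import Groth.Agent.Lib.TorBal.Dim
import Groth.Agent.Lib.TorBal.Perfect
import Groth.Agent.Lib.RegLoc.GlobalDim
import Groth.Agent.S5809

/-! The fibre of a skyscraper at a regular closed point. -/

set_option autoImplicit false
set_option linter.style.haveILetI false
set_option linter.unusedSectionVars false
set_option backward.isDefEq.respectTransparency false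
set_option backward.isDefEq.respectTransparency.types false
set_option maxHeartbeats 1600000

universe u

open CategoryTheory CategoryTheory.Limits AlgebraicGeometry
open scoped TensorProduct

attribute [local instance] HasDerivedCategory.standard

noncomputable section

namespace Groth.Agent.PtSky9

open DMon9
open DPerf.RankSC
open DPerf (tildeX)

attribute [local instance] DBC9.hasRpush

/-- The fibre range of the residue field of a regular local ring. -/
theorem local_range {A : Type u} [CommRing A] [IsRegularLocalRing A] (d : ℕ)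
    (hd : ringKrullDim A = d) (Q : DRing.Cx A) (B : ℤ) [Q.IsStrictlyLE B] (hQ : DRing.TermwiseFiniteFree Q)
    (e : DRing.toD Q ≅ Dual.inD A (IsLocalRing.ResidueField A)) :
    (∀ l, (l < -(d : ℤ) ∨ 0 < l) → Subsingleton (((extCx (IsLocalRing.residue A)).obj Q).homology l)) ∧
      ¬ Subsingleton (((extCx (IsLocalRing.residue A)).obj Q).homology (-(d : ℤ))) := by
  have hflat : ∀ i, Module.Flat A (Q.X i) := fun i => have := (hQ i).2; inferInstance
  have hsp : (IsLocalRing.maximalIdeal A).spanFinrank = d := by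
    have h := (IsRegularLocalRing.spanFinrank_maximalIdeal (R := A)).trans hd
    exact_mod_cast h
  have hpd := RegLoc.hasProjectiveDimensionLT_of_regular (R := A) (d := d) hsp
    (ModuleCat.of A (IsLocalRing.ResidueField A))
  have hamp : DRing.HasTorAmplitudeIn A (-(d : ℤ)) 0 (DRing.toD Q) :=
    DBaseChange.hasTorAmplitudeIn_of_iso e.symm (TorBal.amplitude_of_pd d _ hpd)
  have hup : ∀ l, (l < -(d : ℤ) ∨ 0 < l) →
      Subsingleton (((extCx (IsLocalRing.residue A)).obj Q).homology l) := fun l hl =>
    DBaseChange.subsingleton_homology_ext (IsLocalRing.residue A) B hflat hamp l hl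
  refine ⟨hup, fun h => ?_⟩
  have hfe : ∀ l, (l ≤ -(d : ℤ) ∨ 0 < l) → DPerf.LocalFibre.FibreExact Q l := fun l hl => by
    refine DBaseChange.fibreExact_of_ext Q l ?_
    rcases hl with hl | hl
    · rcases hl.lt_or_eq with hl | rfl
      · exact hup l (Or.inl hl)
      · exact h
    · exact hup l (Or.inr hl)
  cases d with
  | zero =>
    have h0 : Subsingleton (Q.homology 0) := by
      rw [DMod.subsingleton_homology_iff Q (i := 0 - 1) (k := 0 + 1) (by simp) (by simp)]
      exact (DBaseChange.split_of_fibreExact Q hQ 0 (hfe 0 (Or.inl (by simp)))).1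
    have h1 : Subsingleton (IsLocalRing.ResidueField A) :=
      (((DerivedCategory.homologyFunctorFactors _ 0).app Q).symm ≪≫
        (DerivedCategory.homologyFunctor _ 0).mapIso e ≪≫
        (DerivedCategory.singleFunctorCompHomologyFunctorIso (ModuleCat.{u} A) 0).app
          (ModuleCat.of A (IsLocalRing.ResidueField A))).toLinearEquiv.toEquiv.subsingleton_congr.1 h0
    exact not_subsingleton _ h1
  | succ n =>
    have ht := DBaseChange.torAmp_of_fibre_local Q B hQ (-(n : ℤ)) 0 fun l hl => hfe l (by
      rcases hl with hl | hl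
      · exact Or.inl (by push_cast; omega)
      · exact Or.inr hl)
    have htd := TorBal.hasTorDimLE_of_amplitude (IsLocalRing.ResidueField A) n
      (DBaseChange.hasTorAmplitudeIn_of_iso e ht)
    haveI := htd (IsLocalRing.ResidueField A) (n + 1) (Nat.lt_succ_self n)
    haveI : Module.Finite A (IsLocalRing.ResidueField A) :=
      Module.Finite.of_surjective (Algebra.linearMap A (IsLocalRing.ResidueField A)) IsLocalRing.residue_surjective
    have hlt := (Groth.Agent.S5809.result A (IsLocalRing.ResidueField A) n).2 (ModuleCat.isZero_of_subsingleton _)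
    have := RegLoc.spanFinrank_lt_of_hasProjectiveDimensionLT hlt
    omega

variable {X : Scheme.{u}}

theorem isPerfect_skyO [AlgebraicGeometry.IsNoetherian X] (hreg : Models.IsRegularScheme X) {x : X}
    (hx : IsClosed ({x} : Set X)) : DCoh.IsPerfect (DCoh.inD X (KerId9.skyO x)) :=
  DPerf.isPerfect_iff_approx.2 (DPerf.isPerfect_of_regular hreg 1 0 _ inferInstance
    (fun i hi => DerivedCategory.isZero_of_isLE _ 0 i (by omega))
    (K0Db.bd_single K0Coh.serre_coh (KerId9.isCoh_skyO hx) 0).1)

theorem sky_range [AlgebraicGeometry.IsNoetherian X] (hreg : Models.IsRegularScheme X) {x : X}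
    (hx : IsClosed ({x} : Set X)) (d : ℕ) (hd : ringKrullDim (X.presheaf.stalk x) = d) :
    (∀ l, (l < -(d : ℤ) ∨ 0 < l) →
        IsZero (DCoh.HD ((lP (X.fromSpecResidueField x)).obj (DCoh.inD X (KerId9.skyO x))) l)) ∧
      ¬ IsZero (DCoh.HD ((lP (X.fromSpecResidueField x)).obj (DCoh.inD X (KerId9.skyO x))) (-(d : ℤ))) := by
  let jx := X.fromSpecResidueField x
  haveI : IsClosedImmersion jx := isClosed_singleton_iff_isClosedImmersion.1 hx
  haveI : ∀ (T : CommRingCat.{u}), PreservesFiniteLimits (tilde.functor T) := fun _ => M1.tilde_preservesFiniteLimits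
  obtain ⟨R, j₀, hj₀, P, a, b, _, ⟨z, hzx⟩, hP, hF, α, hα⟩ :=
    DPerf.exists_perfect_chart (isPerfect_skyO hreg hx) x
  haveI := hj₀
  haveI := DPerf.isIso_of_dcond_univ hα
  haveI : IsNoetherianRing R := DlzSch27.isNoetherianRing_of_chart j₀
  obtain ⟨φ', hφ', hker'⟩ := DPerf.exists_chart_lift j₀ z (Field.toIsField (X.residueField x)) jx
    (fun p => by rw [hzx]; exact Scheme.fromSpecResidueField_apply _ _)
  let φ : R ⟶ X.residueField x := Spec.preimage φ'
  have hmap : Spec.map φ = φ' := Spec.map_preimage φ'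
  have hφ : Spec.map φ ≫ j₀ = jx := by rw [hmap, hφ']
  have hker : z.asIdeal = RingHom.ker φ.hom := hker'
  haveI : IsClosedImmersion (Spec.map φ) := by
    haveI : IsClosedImmersion (Spec.map φ ≫ j₀) := hφ ▸ inferInstance
    exact IsClosedImmersion.of_comp (Spec.map φ) j₀
  have hsurj : Function.Surjective φ.hom := by
    have h := (IsClosedImmersion.isAffine_surjective_of_isAffine (f := Spec.map φ)).2
    intro y
    obtain ⟨r, hr⟩ := h ((Scheme.ΓSpecIso (X.residueField x)).inv.hom y)
    refine ⟨(Scheme.ΓSpecIso R).hom.hom r, ?_⟩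
    have hn := congrArg (fun f => f.hom r) (Scheme.ΓSpecIso_naturality φ)
    simp only [CommRingCat.hom_comp, RingHom.comp_apply] at hn
    rw [← hn, hr]
    exact congrArg (fun f => f.hom y) (Scheme.ΓSpecIso (X.residueField x)).inv_hom_id
  let T := Spec (X.residueField x)
  have hsq : IsPullback (𝟙 T) (Spec.map φ) jx j₀ := by
    have h1 : IsPullback (𝟙 T) (Spec.map φ) (Spec.map φ) (𝟙 (Spec R)) := IsPullback.of_horiz_isIso ⟨by simp⟩
    have h2 := PtBd9.comp_mono h1 j₀
    rwa [hφ, Category.id_comp] at h2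
  let O : DCoh.D T := DCoh.inD T (Coh.structureModule T)
  have hO : DCoh.IsQCohD O := Exact8.isQCohD_single (M1.isQCoh_structureModule T)
  let σ := DBC9.σcan hsq.w.symm
  haveI := FMAdj9.good_flat hsq (Or.inr inferInstance) (adjLP jx) (adjLP (Spec.map φ)) σ O hO
  let bc : (lP j₀).obj ((DCoh.Rpush jx).obj O) ≅ (DCoh.Rpush (Spec.map φ)).obj ((lP (𝟙 T)).obj O) :=
    (asIso ((DBC9.bc (adjLP jx) (adjLP (Spec.map φ)) σ.hom).app O) :)
  obtain ⟨es⟩ := KerId9.nonempty_skyO_iso hx
  let S := (HomologicalComplex.single (ModuleCat.{u} (X.residueField x)) (ComplexShape.up ℤ) 0).obj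
    (ModuleCat.of (X.residueField x) (X.residueField x))
  obtain ⟨o⟩ := FMAdj9.nonempty_oneD_tilde (X.residueField x) 0
  let eO : O ≅ DCoh.toD T ((tildeX (X.residueField x)).obj S) :=
    o ≪≫ (DPerf.tildeDD (X.residueField x)).mapIso
      ((DerivedCategory.singleFunctorIsoCompQ (ModuleCat.{u} (X.residueField x)) 0).app _) ≪≫
      (tilde.functor (X.residueField x)).mapDerivedCategoryFactors.app S
  let S' := ((ModuleCat.restrictScalars φ.hom).mapHomologicalComplex (ComplexShape.up ℤ)).obj S
  let eR : (DPerf.resD j₀).obj (DCoh.inD X (KerId9.skyO x)) ≅ DCoh.toD (Spec R) ((tildeX R).obj S') :=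
    ((lPRes j₀).app _).symm ≪≫ (lP j₀).mapIso es ≪≫ bc ≪≫
      (DCoh.Rpush (Spec.map φ)).mapIso ((DBC9.lPId T).app O ≪≫ eO) ≪≫ (DPush9.tildeXRpushIso φ).app S
  obtain ⟨eP⟩ := DlzSch27.nonempty_iso_of_tilde
    ((tilde.functor R).mapDerivedCategoryFactors.app P ≪≫ asIso α ≪≫ eR ≪≫
      ((tilde.functor R).mapDerivedCategoryFactors.app S').symm)
  let M : ModuleCat.{u} R := (ModuleCat.restrictScalars φ.hom).obj (ModuleCat.of (X.residueField x) (X.residueField x))
  let eM : DRing.toD S' ≅ (DerivedCategory.singleFunctor (ModuleCat.{u} R) 0).obj M :=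
    DerivedCategory.Q.mapIso ((HomologicalComplex.singleMapHomologicalComplex
      (ModuleCat.restrictScalars φ.hom) (ComplexShape.up ℤ) 0).app _) ≪≫
      ((DerivedCategory.singleFunctorIsoCompQ (ModuleCat.{u} R) 0).app _).symm
  let A := Localization.AtPrime z.asIdeal
  let ι := algebraMap R A
  haveI := ModuleCat.preservesFiniteLimits_extendScalars_of_flat.{u}
    (f := ι) (RingHom.flat_algebraMap_iff.2 (IsLocalization.flat A z.asIdeal.primeCompl))
  let F := ModuleCat.extendScalars.{u, u, u} ι
  let Q := (extCx ι).obj P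
  have hQ : DRing.TermwiseFiniteFree Q := DBaseChange.termwiseFiniteFree_ext ι hF
  haveI : Q.IsStrictlyLE b := (CochainComplex.isStrictlyLE_iff _ _).2 fun l hl =>
    Functor.map_isZero F (hP l (Or.inr hl))
  let qM : M ≃ₗ[R] R ⧸ z.asIdeal :=
    (LinearEquiv.ofBijective (Submodule.liftQ z.asIdeal
      ({ toFun := fun r => φ.hom r, map_add' := map_add _, map_smul' := fun r s => map_mul φ.hom r s } : R →ₗ[R] M)
      (fun r hr => by
        show φ.hom r = (0 : X.residueField x)
        exact (RingHom.mem_ker (f := φ.hom)).1 (hker ▸ hr)))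
      ⟨by
        rw [← LinearMap.ker_eq_bot, Submodule.ker_liftQ_eq_bot']
        ext r
        rw [hker]
        rfl,
      fun y => by obtain ⟨r, hr⟩ := hsurj y; exact ⟨Submodule.Quotient.mk r, hr⟩⟩).symm
  let qA : F.obj M ≅ ModuleCat.of A (IsLocalRing.ResidueField A) :=
    ((FlatCxLib.extEquiv A M).trans
      ((TensorProduct.AlgebraTensorModule.congr (LinearEquiv.refl A A) qM).trans
        ((Ideal.qoutMapEquivTensorQout A).symm.trans
          (Submodule.quotEquivOfEq _ _ Localization.AtPrime.map_eq_maximalIdeal)))).toModuleIso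
  let eQ : DRing.toD Q ≅ Dual.inD A (IsLocalRing.ResidueField A) :=
    (F.mapDerivedCategoryFactors.app P).symm ≪≫ F.mapDerivedCategory.mapIso (eP ≪≫ eM) ≪≫
      (F.mapDerivedCategorySingleFunctor 0).app M ≪≫ (DerivedCategory.singleFunctor _ 0).mapIso qA
  let eA : A ≃+* X.presheaf.stalk x := by
    letI : Algebra R ((Spec R).presheaf.stalk z) := (StructureSheaf.toStalk R z).hom.toAlgebra
    haveI : IsLocalization.AtPrime ((Spec R).presheaf.stalk z) z.asIdeal := by
      exact (inferInstance : IsLocalization.AtPrime ((Spec.structureSheaf R).presheaf.stalk z) z.asIdeal)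
    exact ((IsLocalization.algEquiv z.asIdeal.primeCompl A ((Spec R).presheaf.stalk z)).toRingEquiv).trans
      ((asIso (j₀.stalkMap z)).symm ≪≫ X.presheaf.stalkCongr (.of_eq hzx)).commRingCatIsoToRingEquiv
  haveI : IsRegularLocalRing A := haveI := hreg x; IsRegularLocalRing.of_ringEquiv eA.symm
  obtain ⟨hup, hlow⟩ := local_range d ((ringKrullDim_eq_of_ringEquiv eA).trans hd) Q b hQ eQ
  let β := IsLocalRing.residue A
  let ψ : R →+* IsLocalRing.ResidueField A := β.comp ι
  have hψ : z.asIdeal = RingHom.ker ψ := by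
    refine (IsLocalization.AtPrime.under_maximalIdeal A z.asIdeal).symm.trans ?_
    rw [← RingHom.comap_ker, IsLocalRing.ker_residue]
  let eQc : (extCx ψ).obj P ≅ (extCx β).obj Q :=
    HomologicalComplex.Hom.isoOfComponents
      (fun l => (ModuleCat.extendScalarsComp ι β).app (P.X l))
      (fun l m _ => ((ModuleCat.extendScalarsComp ι β).hom.naturality (P.d l m)).symm)
  have key : ∀ l, IsZero (DCoh.HD ((lP jx).obj (DCoh.inD X (KerId9.skyO x))) l) ↔
      Subsingleton (((extCx β).obj Q).homology l) := fun l => by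
    obtain ⟨ef⟩ := nonempty_fibre_chart jx j₀ P hP hF (asIso α) φ hφ l
    refine Iff.trans ⟨fun h => (DMod.isZero_iff_subsingleton _).1 (DPerf.isZero_of_tilde (h.of_iso ef.symm)),
      fun h => ((tilde.functor (X.residueField x)).map_isZero ((DMod.isZero_iff_subsingleton _).2 h)).of_iso ef⟩
      ((subsingleton_congr_ker P hF φ.hom ψ z hker hψ l).trans
        (HomologicalComplex.homologyMapIso eQc l).toLinearEquiv.toEquiv.subsingleton_congr)
  exact ⟨fun l hl => (key l).2 (hup l hl), fun h => hlow ((key _).1 h)⟩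

end Groth.Agent.PtSky9
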