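import Groth.Agent.Lib.PtSky9.Sky
import Groth.Agent.Lib.BC8.FiniteShriek
import Groth.Agent.Lib.BC8.RelDual
import Groth.Agent.Lib.DQBd9.Main
import Groth.Agent.Lib.TwistBC9.Apps

/-! Vanishing near a regular closed point. -/

set_option autoImplicit false
set_option linter.style.haveILetI false
set_option linter.unusedSectionVars false
set_option backward.isDefEq.respectTransparency false
set_option backward.isDefEq.respectTransparency.types false
set_option maxHeartbeats 1600000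

universe u

open CategoryTheory CategoryTheory.Limits AlgebraicGeometry MonoidalCategory

attribute [local instance] HasDerivedCategory.standard

noncomputable section

namespace Groth.Agent.PtSky9

open DMon9

attribute [local instance] DBC9.hasRpush

variable {X : Scheme.{u}}

theorem exists_dim (hreg : Models.IsRegularScheme X) (x : X) : ∃ d : ℕ, ringKrullDim (X.presheaf.stalk x) = d := by
  haveI := hreg x
  exact ⟨_, (IsRegularLocalRing.spanFinrank_maximalIdeal (R := X.presheaf.stalk x)).symm⟩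

theorem not_mem_support {E : DCoh.D X} {s : Set ℤ} (h : DPerf.Approx s E) (m l : ℤ) (hs : Set.Ici m ⊆ s) (hl : m < l)
    (x : X) (hz : IsZero (DCoh.HD ((lP (X.fromSpecResidueField x)).obj E) l)) :
    x ∉ CohB1.support (DCoh.HD E l) := fun hmem => by
  haveI := KFlat.Sch.hasLpull (X.fromSpecResidueField x)
  exact hmem (stalk_of_betti h m l hs hl x (betti_of_isZero E x l hz))

theorem exists_nhd_of_not_mem {M : X.Modules} (hM : Coh.IsCoh M) {x : X} (hx : x ∉ CohB1.support M) :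
    ∃ U : X.Opens, x ∈ U ∧ ∀ y : X, y ∈ U → y ∉ CohB1.support M := by
  have hclosed : IsClosed (CohB1.support M) := by
    rw [← M1.support_annSheaf hM.1 hM.2]
    exact (M1.annSheaf hM.1 hM.2).support.isClosed
  exact ⟨⟨(CohB1.support M)ᶜ, hclosed.isOpen_compl⟩, hx, fun y hy => hy⟩

theorem isCoh_HD_of_perfect [IsLocallyNoetherian X] {K : DCoh.D X} (hK : DCoh.IsPerfect K) (i : ℤ) :
    Coh.IsCoh (DCoh.HD K i) :=
  DPerf.isCoh_HD_of_pseudoCoherent (DGen9.isPseudoCoherentD_of_isPerfect hK i)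
    (DGen9.isQCohD_of_isPerfect hK i) le_rfl

/-- A vanishing fibre degree gives vanishing cohomology nearby. -/
theorem exists_nhd_perfect [IsLocallyNoetherian X] {K : DCoh.D X} (hK : DCoh.IsPerfect K) (x : X) (l : ℤ)
    (hz : IsZero (DCoh.HD ((lP (X.fromSpecResidueField x)).obj K) l)) :
    ∃ U : X.Opens, x ∈ U ∧ ∀ y : X, y ∈ U → y ∉ CohB1.support (DCoh.HD K l) :=
  exists_nhd_of_not_mem (isCoh_HD_of_perfect hK l)
    (not_mem_support (DPerf.isPerfect_iff_approx.1 hK) (l - 1) l (Set.subset_univ _) (by omega) x hz)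

/-- Vanishing in all degrees. -/
theorem exists_nhd_perfect_all [AlgebraicGeometry.IsNoetherian X] {K : DCoh.D X} (hK : DCoh.IsPerfect K) (x : X)
    (hz : ∀ l, IsZero (DCoh.HD ((lP (X.fromSpecResidueField x)).obj K) l)) :
    ∃ U : X.Opens, x ∈ U ∧ ∀ (l : ℤ) (y : X), y ∈ U → y ∉ CohB1.support (DCoh.HD K l) := by
  classical
  choose U hxU hU using fun l => exists_nhd_perfect hK x l (hz l)
  obtain ⟨a, ha⟩ := DPerf.exists_isGE_of_perfect hK
  obtain ⟨b, hb⟩ := DPerf.exists_isLE_of_pseudoCoherent (DGen9.isPseudoCoherentD_of_isPerfect hK 0)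
  let S : Finset ℤ := Finset.Icc a b
  refine ⟨⟨⋂ l ∈ S, (U l : Set X), isOpen_biInter_finset fun l _ => (U l).2⟩,
    Set.mem_iInter₂.2 fun l _ => hxU l, fun l y hy hmem => ?_⟩
  by_cases hl : l ∈ S
  · exact hU l y (Set.mem_iInter₂.1 hy l hl) hmem
  · haveI := ha
    haveI := hb
    refine hmem (AddCommGrpCat.subsingleton_of_isZero (RHom.stalkZero_of_isZero y ?_))
    simp only [S, Finset.mem_Icc] at hl
    by_cases h : l < a
    · exact DerivedCategory.isZero_of_isGE K a l h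
    · exact DerivedCategory.isZero_of_isLE K b l (by omega)

/-- The dual and maps to the skyscraper. -/
theorem isZero_fibre_dual [AlgebraicGeometry.IsNoetherian X] {x : X} (hx : IsClosed ({x} : Set X))
    (E : CochainComplex X.Modules ℤ) (hK : DCoh.IsPerfect (DCoh.toD X E))
    [DCoh.HasLTensorCx E] [DCoh.HasRSheafHom E] (i : ℤ)
    (h : ∀ φ : DCoh.toD X E ⟶ (DCoh.inD X (KerId9.skyO x))⟦i⟧, φ = 0) :
    ∃ D : DCoh.D X, DCoh.IsPerfect D ∧ Nonempty ((DCoh.RSheafHom E).obj (DCoh.inD X (Coh.structureModule X)) ≅ D) ∧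
      IsZero (DCoh.HD ((lP (X.fromSpecResidueField x)).obj D) i) := by
  let A : DM X := DCoh.toD X E
  obtain ⟨D, hD, ⟨p⟩⟩ := BC8.exists_pairing_left_perfect A hK
  haveI := p
  obtain ⟨t⟩ := BC8.nonempty_ltensor_tenR E (DCoh.toD X E) (Iso.refl _)
  let adjD : (tensorRight A : DM X ⥤ DM X) ⊣ tensorRight D := tensorRightAdjunction A D
  let adjE : DCoh.LTensorCx E ⊣ (tensorRight D : DM X ⥤ DM X) := Adjunction.ofNatIsoLeft adjD t.symm
  let u : (DCoh.inD X (Coh.structureModule X) : DM X) ≅ 𝟙_ (DM X) :=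
    ((DerivedCategory.singleFunctorIsoCompQ X.Modules 0).app (Coh.structureModule X) :
      DCoh.inD X (Coh.structureModule X) ≅ (qK X).obj (𝟙_ (KF X)))
  let O₁ : DM X := DCoh.inD X (Coh.structureModule X)
  let uO : O₁ ≅ 𝟙_ (DM X) := u
  let z : O₁ ⊗ D ≅ D := whiskerRightIso uO D ≪≫ λ_ D
  refine ⟨D, hD, ⟨((DCoh.RSheafHomAdj E).rightAdjointUniq adjE).app _ ≪≫ (z :)⟩, ?_⟩
  have hDq : DCoh.IsQCohD (D : DCoh.D X) := DGen9.isQCohD_of_isPerfect hD
  obtain ⟨n, rfl⟩ : ∃ n : ℤ, i = -n := ⟨-i, (neg_neg i).symm⟩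
  let sk : DCoh.D X := DCoh.inD X (KerId9.skyO x)
  refine (hom_one_sky hx (D : DCoh.D X) hDq (-n)).1 fun φ => ?_
  obtain ⟨l⟩ := BC8.nonempty_tenL_one (X := X) n _ (Iso.refl (TwistBC9.oneD X n))
  obtain ⟨as⟩ := BC8.nonempty_tenL_assoc (TwistBC9.oneD X n) sk (D : DCoh.D X)
  obtain ⟨cg⟩ := BC8.nonempty_tenL_congr (l.app sk)
  let eT : ((BC8.tenL sk).obj (D : DCoh.D X))⟦-n⟧ ≅ (BC8.tenL (sk⟦-n⟧)).obj (D : DCoh.D X) :=
    (l.app _).symm ≪≫ as.symm ≪≫ cg.app (D : DCoh.D X)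
  let S₀ : DCoh.D X := sk⟦-n⟧
  let S : DM X := S₀
  haveI hs : Subsingleton (DCoh.toD X E ⟶ sk⟦-n⟧) := ⟨fun f g => (h f).trans (h g).symm⟩
  haveI : Subsingleton (O₁ ⊗ A ⟶ S) := by
    let w : O₁ ⊗ A ≅ A := whiskerRightIso uO A ≪≫ λ_ A
    have hs' : Subsingleton (A ⟶ S) := hs
    exact ⟨fun f g => (cancel_epi w.inv).1 (hs'.elim _ _)⟩
  haveI : Subsingleton (O₁ ⟶ S ⊗ D) := (tensorRightHomEquiv O₁ A D S).symm.subsingleton
  haveI : Subsingleton (TwistBC9.oneD X 0 ⟶ (BC8.tenL (sk⟦-n⟧)).obj (D : DCoh.D X)) :=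
    inferInstanceAs (Subsingleton (O₁ ⟶ S ⊗ D))
  rw [← cancel_mono eT.hom, zero_comp]
  exact Subsingleton.elim _ _

/-- Vanishing hypercohomology of the derived fibre. -/
theorem isZero_fibre_of_rGamma [AlgebraicGeometry.IsNoetherian X] {x : X} (hx : IsClosed ({x} : Set X))
    [DCoh.HasLTensorMod (KerId9.skyO x)] [DCoh.HasRΓ X] (K : DCoh.D X) (hK : DCoh.IsQCohD K) (i : ℤ)
    (h : IsZero ((DerivedCategory.homologyFunctor AddCommGrpCat.{u} i).obj
      ((DCoh.RΓ X).obj ((DCoh.LTensorMod (KerId9.skyO x)).obj K)))) :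
    IsZero (DCoh.HD ((lP (X.fromSpecResidueField x)).obj K) i) := by
  let j := X.fromSpecResidueField x
  let T := Spec (X.residueField x)
  haveI : DCoh.HasRΓ T := KInjLib.hasRightDerivedFunctor KInjLib.enoughKInj_of_grothendieck _
  obtain ⟨a⟩ := TwistBC9.nonempty_ltensorMod_iso (KerId9.skyO x) K
  obtain ⟨b⟩ := BoxRes9.nonempty_braid (K : DM X) (TwistBC9.modM (KerId9.skyO x))
  obtain ⟨p⟩ := nonempty_sky_ten hx K hK
  obtain ⟨g⟩ := DMV.nonempty_rGamma_rpush (X := T) (Y := X) j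
  have hT : IsZero ((DerivedCategory.homologyFunctor AddCommGrpCat.{u} i).obj ((DCoh.RΓ T).obj ((lP j).obj K))) :=
    h.of_iso ((DerivedCategory.homologyFunctor AddCommGrpCat.{u} i).mapIso
      ((g.app _).symm ≪≫ (DCoh.RΓ X).mapIso (p.symm ≪≫ (b.symm :) ≪≫ a.symm)))
  have hs := DQBd9.subsingleton_hom_of_rGamma ((lP j).obj K) i hT
  haveI : PreservesFiniteLimits (tilde.functor (X.residueField x)) := M1.tilde_preservesFiniteLimits
  refine (isZero_iff_hom_from (K := ↥(X.residueField x)) _ (isQCohD_lP j hK) i).2 fun φ => ?_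
  let e : (DQC.gen T).obj ⊤ ≅ Coh.structureModule T := DQC.genTopIso (X.residueField x) ≪≫ tildeSelf
  let e' := (DerivedCategory.singleFunctor T.Modules i).mapIso e
  rw [← cancel_epi e'.hom]
  exact hs.elim _ _

end Groth.Agent.PtSky9
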