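import Groth.Agent.Lib.PtSky9.Field
import Groth.Agent.Lib.PtSky9.Range
import Groth.Agent.Lib.BC8.Loc
import Groth.Agent.Lib.BC8.AffineLine
import Groth.Agent.Lib.BC8.RightAdj
import Groth.Agent.Lib.BC8.Local

/-! Maps to and from a skyscraper at a regular closed point. -/

set_option autoImplicit false
set_option linter.style.haveILetI false
set_option linter.unusedSectionVars false
set_option backward.isDefEq.respectTransparency false
set_option backward.isDefEq.respectTransparency.types false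
set_option maxHeartbeats 1600000

universe u

open CategoryTheory CategoryTheory.Limits AlgebraicGeometry MonoidalCategory

attribute [local instance] HasDerivedCategory.standard

noncomputable section

namespace Groth.Agent.PtSky9

open DMon9

attribute [local instance] DBC9.hasRpush

theorem forall_eq_zero_congr {C : Type*} [Category* C] [Preadditive C] {A B A' B' : C} (eA : A ≅ A') (eB : B ≅ B') :
    (∀ φ : A ⟶ B, φ = 0) ↔ ∀ φ : A' ⟶ B', φ = 0 := by
  constructor
  · intro h φ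
    rw [← cancel_epi eA.hom, ← cancel_mono eB.inv, h ((eA.hom ≫ φ) ≫ eB.inv), comp_zero, zero_comp]
  · intro h φ
    rw [← cancel_epi eA.inv, ← cancel_mono eB.hom, h ((eA.inv ≫ φ) ≫ eB.hom), comp_zero, zero_comp]

theorem forall_eq_zero_adj {C D : Type*} [Category* C] [Category* D] [Preadditive C] [Preadditive D]
    {L : C ⥤ D} {R : D ⥤ C} (adj : L ⊣ R) [R.Additive] (A : C) (B : D) :
    (∀ φ : L.obj A ⟶ B, φ = 0) ↔ ∀ φ : A ⟶ R.obj B, φ = 0 := by
  have h0 : adj.homEquiv A B 0 = 0 := by rw [adj.homEquiv_unit, Functor.map_zero, comp_zero]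
  constructor
  · intro h φ
    obtain ⟨ψ, rfl⟩ := (adj.homEquiv A B).surjective φ
    rw [h ψ, h0]
  · intro h φ
    exact (adj.homEquiv A B).injective ((h _).trans h0.symm)

variable {X : Scheme.{u}}

/-- Cohomology of a shift. -/
theorem isZero_shift_iff {Y : Scheme.{u}} (L : DCoh.D Y) (i n m : ℤ) (h : i + n = m) :
    IsZero (DCoh.HD (L⟦i⟧) n) ↔ IsZero (DCoh.HD L m) :=
  Iso.isZero_iff (((DerivedCategory.homologyFunctor Y.Modules 0).shiftIso i n m h).app L)

/-- Shifted skyscrapers are direct images. -/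
theorem nonempty_sky_shift [IsLocallyNoetherian X] {x : X} (hx : IsClosed ({x} : Set X)) (n : ℤ) :
    Nonempty ((DCoh.inD X (KerId9.skyO x))⟦n⟧ ≅
      (DCoh.Rpush (X.fromSpecResidueField x)).obj (TwistBC9.oneD _ (-n))) := by
  obtain ⟨e⟩ := KerId9.nonempty_skyO_iso hx
  obtain ⟨_, _⟩ := DPush.exists_commShift_isTriangulated (X.fromSpecResidueField x)
  obtain ⟨s⟩ := BC8.nonempty_shiftOne' (Spec (X.residueField x)) 0 n
  rw [zero_sub] at s
  exact ⟨(shiftFunctor (DCoh.D X) n).mapIso e ≪≫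
    (((DCoh.Rpush (X.fromSpecResidueField x)).commShiftIso n).app _).symm ≪≫
      (DCoh.Rpush (X.fromSpecResidueField x)).mapIso s⟩

/-- Maps to a shifted skyscraper test the fibre. -/
theorem hom_sky_right [IsLocallyNoetherian X] {x : X} (hx : IsClosed ({x} : Set X)) (K : DCoh.D X)
    (hK : DCoh.IsQCohD K) (n : ℤ) :
    (∀ φ : K ⟶ (DCoh.inD X (KerId9.skyO x))⟦n⟧, φ = 0) ↔
      IsZero (DCoh.HD ((lP (X.fromSpecResidueField x)).obj K) (-n)) := by
  obtain ⟨e⟩ := nonempty_sky_shift hx n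
  obtain ⟨_, _⟩ := DPush.exists_commShift_isTriangulated (X.fromSpecResidueField x)
  rw [isZero_iff_hom_to (K := ↥(X.residueField x)) _ (isQCohD_lP _ hK) (-n),
    forall_eq_zero_congr (Iso.refl K) e]
  exact (forall_eq_zero_adj (adjLP (X.fromSpecResidueField x)) K _).symm

/-- Projection formula for the skyscraper. -/
theorem nonempty_sky_ten [IsLocallyNoetherian X] {x : X} (hx : IsClosed ({x} : Set X)) (K : DCoh.D X)
    (hK : DCoh.IsQCohD K) :
    Nonempty ((BC8.tenL (DCoh.inD X (KerId9.skyO x))).obj K ≅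
      (DCoh.Rpush (X.fromSpecResidueField x)).obj ((lP (X.fromSpecResidueField x)).obj K)) := by
  let j := X.fromSpecResidueField x
  haveI : IsClosedImmersion j := isClosed_singleton_iff_isClosedImmersion.1 hx
  let O : DCoh.D (Spec (X.residueField x)) := DCoh.inD _ (Coh.structureModule _)
  have hO : DCoh.IsQCohD O := Exact8.isQCohD_single (M1.isQCoh_structureModule _)
  obtain ⟨e⟩ := KerId9.nonempty_skyO_iso hx
  let u : (O : DM (Spec (X.residueField x))) ≅ 𝟙_ (DM _) :=
    ((DerivedCategory.singleFunctorIsoCompQ (Spec (X.residueField x)).Modules 0).app (Coh.structureModule _) :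
      O ≅ (qK _).obj (𝟙_ (KF _)))
  let E : DM (Spec (X.residueField x)) := O
  haveI := isIso_projT j E hO (K : DM X) hK
  let pr : (((rM j).obj E ⊗ (K : DM X) : DM X) : DCoh.D X) ≅
      (DCoh.Rpush j).obj ((E ⊗ (dPull j).obj (K : DM X) : DM _) : DCoh.D _) :=
    (asIso ((projT j E).app (K : DM X)) :)
  let uE : E ≅ 𝟙_ (DM (Spec (X.residueField x))) := u
  let w : (E ⊗ (dPull j).obj (K : DM X) : DM _) ≅ (dPull j).obj (K : DM X) := whiskerRightIso uE _ ≪≫ λ_ _
  obtain ⟨c⟩ := BC8.nonempty_tenL_congr e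
  exact ⟨c.app K ≪≫ (pr :) ≪≫ (DCoh.Rpush j).mapIso (w :)⟩

/-- Maps from the structure sheaf into the tensor with a skyscraper. -/
theorem hom_one_sky [IsLocallyNoetherian X] {x : X} (hx : IsClosed ({x} : Set X)) (K : DCoh.D X)
    (hK : DCoh.IsQCohD K) (i : ℤ) :
    (∀ φ : TwistBC9.oneD X 0 ⟶ ((BC8.tenL (DCoh.inD X (KerId9.skyO x))).obj K)⟦i⟧, φ = 0) ↔
      IsZero (DCoh.HD ((lP (X.fromSpecResidueField x)).obj K) i) := by
  obtain ⟨e⟩ := nonempty_sky_ten hx K hK
  obtain ⟨_, _⟩ := DPush.exists_commShift_isTriangulated (X.fromSpecResidueField x)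
  obtain ⟨l⟩ := TwistBC9.nonempty_lP_oneM (X.fromSpecResidueField x) 0
  let e' : ((BC8.tenL (DCoh.inD X (KerId9.skyO x))).obj K)⟦i⟧ ≅
      (DCoh.Rpush (X.fromSpecResidueField x)).obj (((lP (X.fromSpecResidueField x)).obj K)⟦i⟧) :=
    (shiftFunctor (DCoh.D X) i).mapIso e ≪≫
      (((DCoh.Rpush (X.fromSpecResidueField x)).commShiftIso i).app _).symm
  rw [forall_eq_zero_congr (Iso.refl _) e', ← forall_eq_zero_adj (adjLP (X.fromSpecResidueField x)), forall_eq_zero_congr l (Iso.refl _)]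
  exact (isZero_iff_hom_from (K := ↥(X.residueField x)) _
    (WayOut.cohIn_shift (fun M : (Spec (X.residueField x)).Modules => Coh.IsQCoh M) i (isQCohD_lP _ hK)) 0).symm.trans
      (isZero_shift_iff _ i 0 i (add_zero i))

/-- Maps from a skyscraper into a perfect object test the fibre, shifted by the dimension. -/
theorem hom_sky_left [AlgebraicGeometry.IsNoetherian X] (hreg : Models.IsRegularScheme X) {x : X}
    (hx : IsClosed ({x} : Set X)) (d : ℕ) (hd : ringKrullDim (X.presheaf.stalk x) = d) (K : DCoh.D X)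
    (hK : DCoh.IsPerfect K) (i : ℤ)
    (h : ∀ φ : DCoh.inD X (KerId9.skyO x) ⟶ K⟦i⟧, φ = 0) :
    IsZero (DCoh.HD ((lP (X.fromSpecResidueField x)).obj K) (i - d)) := by
  let j := X.fromSpecResidueField x
  let T := Spec (X.residueField x)
  haveI : IsClosedImmersion j := isClosed_singleton_iff_isClosedImmersion.1 hx
  haveI : IsProper j := inferInstance
  let hp := BC8.rpushPreserves j
  haveI := BC8.isLeftAdjoint_rpushQ j hp
  let adj := Adjunction.ofIsLeftAdjoint (DCoh.RpushQ j hp)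
  let a := (DCoh.RpushQ j hp).rightAdjoint
  let W : DCoh.D T := (a.obj (BC8.oQ X)).obj
  obtain ⟨_, _⟩ := DPush.exists_commShift_isTriangulated j
  letI := (adjLP j).leftAdjointCommShift ℤ
  let L (M : DCoh.D X) : DCoh.D T := (lP j).obj M
  let sk := DCoh.inD X (KerId9.skyO x)
  let oT : DCoh.DQCoh T := ⟨TwistBC9.oneD T 0, DGen9.isQCohD_of_isPerfect (TwistBC9.isPerfect_oneD T)⟩
  obtain ⟨es⟩ := KerId9.nonempty_skyO_iso hx
  -- maps from the skyscraper are the degree zero cohomology of `W ⊗ Lj^*`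
  have key : ∀ M : DCoh.D X, DCoh.IsPerfect M →
      ((∀ φ : sk ⟶ M, φ = 0) ↔ IsZero (DCoh.HD ((BC8.tenL W).obj (L M)) 0)) := fun M hM => by
    let MQ : DCoh.DQCoh X := ⟨M, DGen9.isQCohD_of_isPerfect hM⟩
    obtain ⟨p⟩ := BC8.nonempty_shriek_perfect (Category.id_comp j) adj MQ hM
    obtain ⟨c⟩ := BC8.nonempty_tenL_congr ((DBC9.lPId T).app W)
    let eM : (a.obj MQ).obj ≅ (BC8.tenL W).obj (L M) := ((DBC9.lPId T).app _).symm ≪≫ p ≪≫ c.app _
    have h1 : (∀ φ : sk ⟶ M, φ = 0) ↔ ∀ φ : ((DCoh.RpushQ j hp).obj oT) ⟶ MQ, φ = 0 := by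
      rw [forall_eq_zero_congr (B := M) es (Iso.refl M)]
      exact ⟨fun h φ => ObjectProperty.hom_ext _ (h φ.hom),
        fun h φ => congrArg (fun f => f.hom) (h (ObjectProperty.homMk φ))⟩
    rw [h1]
    have h2 : (∀ φ : ((DCoh.RpushQ j hp).obj oT) ⟶ MQ, φ = 0) ↔ ∀ φ : oT ⟶ a.obj MQ, φ = 0 := by
      haveI : a.Additive := adj.right_adjoint_additive
      exact forall_eq_zero_adj adj oT MQ
    rw [h2]
    refine Iff.trans ?_ (isZero_iff_hom_from (K := ↥(X.residueField x)) _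
      (DQC.isQCohD_of_iso eM (a.obj MQ).property) 0).symm
    constructor
    · intro h φ
      have := congrArg (fun f => f.hom) (h (ObjectProperty.homMk (φ ≫ eM.inv)))
      rw [← cancel_mono eM.inv, zero_comp]
      exact this
    · intro h φ
      refine ObjectProperty.hom_ext _ ?_
      rw [← cancel_mono eM.hom]
      exact (h _).trans zero_comp.symm
  have hsk : DCoh.IsPerfect sk := isPerfect_skyO hreg hx
  have hskq : DCoh.IsQCohD sk := DGen9.isQCohD_of_isPerfect hsk
  obtain ⟨hrange, hlow⟩ := sky_range hreg hx d hd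
  have hend : ¬ ∀ φ : sk ⟶ sk, φ = 0 := fun h0 => hlow <| by
    have hz : IsZero sk := (IsZero.iff_id_eq_zero _).2 (h0 _)
    haveI := (adjLP j).isLeftAdjoint
    exact (DerivedCategory.homologyFunctor _ _).map_isZero ((lP j).map_isZero hz)
  -- a retract of `W`
  obtain ⟨l, hl⟩ : ∃ l : ℤ, ¬ IsZero (DCoh.HD W l) := by
    by_contra hc
    push Not at hc
    have hz : IsZero W := DPush.isZero_of_isZero_HD W hc
    exact hend ((key sk hsk).2 ((DerivedCategory.homologyFunctor _ 0).map_isZero ((BC8.tenR (L sk)).map_isZero hz)))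
  have hW : DCoh.IsQCohD W := (a.obj (BC8.oQ X)).property
  rcases dichotomy_point (K := ↥(X.residueField x)) W hW l with ⟨h', -⟩ | ⟨-, s, r, hsr⟩
  · exact absurd h' hl
  -- vanishing of maps out of the skyscraper
  have hvan : ∀ (M : DCoh.D X), DCoh.IsPerfect M → ∀ n m : ℤ, n - l = m →
      (∀ φ : sk ⟶ M⟦n⟧, φ = 0) → IsZero (DCoh.HD (L M) m) := fun M hM n m hm h0 => by
    have h1 := (key _ (DGen9.isPerfect_shiftD hM n)).1 h0
    let F := (DerivedCategory.homologyFunctor T.Modules 0)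
    let R' := BC8.tenR (L (M⟦n⟧))
    have h2 : IsZero (F.obj (R'.obj (TwistBC9.oneD T l))) := by
      have h3 : IsZero (F.obj (R'.obj W)) := h1
      have hsr' : 𝟙 (TwistBC9.oneD T l) = s ≫ r := hsr.symm
      rw [IsZero.iff_id_eq_zero, ← F.map_id, ← R'.map_id, hsr', R'.map_comp, F.map_comp,
        h3.eq_of_src (F.map (R'.map r)) 0, comp_zero]
    obtain ⟨t⟩ := BC8.nonempty_tenL_one l (TwistBC9.oneD T l) (Iso.refl _)
    have h4 : IsZero (DCoh.HD (((lP j).obj (M⟦n⟧))⟦-l⟧) 0) :=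
      IsZero.of_iso h2 (F.mapIso (t.app _).symm)
    rw [isZero_shift_iff _ (-l) 0 (-l) (add_zero _)] at h4
    have h5 := h4.of_iso ((DerivedCategory.homologyFunctor _ (-l)).mapIso (((lP j).commShiftIso n).app M).symm)
    exact (isZero_shift_iff _ n (-l) m (by omega)).1 h5
  have hmem : ∀ n : ℤ, ¬ IsZero (DCoh.HD (L sk) n) → ¬ IsZero (DCoh.HD (L sk) (-(n + l))) := fun n hn h0 =>
    hn (hvan sk hsk (n + l) n (by omega) ((hom_sky_right hx sk hskq (n + l)).2 h0))
  have h0 : ¬ IsZero (DCoh.HD (L sk) 0) := fun hz => hend fun φ => by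
    have := (hom_sky_right hx sk hskq 0).2 (by simpa using hz)
    exact (forall_eq_zero_congr (Iso.refl sk) ((shiftFunctorZero (DCoh.D X) ℤ).app sk)).1 this φ
  have b1 : ¬ (-(0 + l) < -(d : ℤ) ∨ 0 < -(0 + l)) := fun hc => hmem 0 h0 (hrange _ hc)
  have b2 : ¬ (-(-(d : ℤ) + l) < -(d : ℤ) ∨ 0 < -(-(d : ℤ) + l)) := fun hc => hmem _ hlow (hrange _ hc)
  exact hvan K hK i (i - d) (by omega) h

end Groth.Agent.PtSky9
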