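import Groth.Agent.Lib.DBaseChange.FieldCx
import Groth.Agent.Lib.DMod.InjAmp
import Groth.Agent.Lib.FMAdj9.PointShift
import Mathlib.RingTheory.SimpleModule.InjectiveProjective

/-! The derived category of the spectrum of a field. -/

set_option autoImplicit false
set_option linter.style.haveILetI false
set_option linter.unusedSectionVars false
set_option backward.isDefEq.respectTransparency false
set_option backward.isDefEq.respectTransparency.types false
set_option maxHeartbeats 800000

universe u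

open CategoryTheory CategoryTheory.Limits AlgebraicGeometry

attribute [local instance] HasDerivedCategory.standard

noncomputable section

namespace Groth.Agent.PtSky9

open DBaseChange

variable {K : Type u} [Field K]

/-- The field in one degree, as a complex. -/
abbrev oneC (K : Type u) [Field K] (n : ℤ) : DRing.Cx K :=
  (HomologicalComplex.single (ModuleCat.{u} K) (ComplexShape.up ℤ) n).obj (ModuleCat.of K K)

theorem eq_zero_of_subsingleton {G S : DRing.Cx K} (f : G ⟶ S) (n : ℤ)
    (hS : ∀ i, i ≠ n → Subsingleton (S.X i)) (hG : Subsingleton (G.X n) ∨ Subsingleton (S.X n)) : f = 0 := by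
  refine HomologicalComplex.hom_ext _ _ fun i => ModuleCat.hom_ext (LinearMap.ext fun x => ?_)
  rcases eq_or_ne i n with rfl | hi
  · rcases hG with h | h
    · rw [h.elim x 0, map_zero, map_zero]
    · exact h.elim _ _
  · exact (hS i hi).elim _ _

theorem eq_zero_of_subsingleton' {G S : DRing.Cx K} (f : S ⟶ G) (n : ℤ)
    (hS : ∀ i, i ≠ n → Subsingleton (S.X i)) (hG : Subsingleton (G.X n)) : f = 0 := by
  refine HomologicalComplex.hom_ext _ _ fun i => ModuleCat.hom_ext (LinearMap.ext fun x => ?_)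
  rcases eq_or_ne i n with rfl | hi
  · exact hG.elim _ _
  · rw [(hS i hi).elim x 0, map_zero, map_zero]

theorem subsingleton_oneC {n i : ℤ} (h : i ≠ n) : Subsingleton ((oneC K n).X i) :=
  ModuleCat.subsingleton_of_isZero (HomologicalComplex.isZero_single_obj_X _ _ _ _ h)

instance (n : ℤ) : (oneC K n).IsKInjective :=
  haveI : ∀ i, CategoryTheory.Injective ((oneC K n).X i) := fun i =>
    haveI := Module.injective_of_isSemisimpleRing K ((oneC K n).X i)
    (Module.injective_iff_injective_object K ((oneC K n).X i)).1 inferInstance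
  CochainComplex.isKInjective_of_injective (oneC K n) n

instance (n : ℤ) : (oneC K n).IsKProjective :=
  haveI : (oneC K n).IsStrictlyLE n := inferInstance
  DMod.isKProjective n fun i =>
    haveI : Module.Free K ((oneC K n).X i) := Module.Free.of_divisionRing K _
    Module.Projective.of_free

/-- A complex with vanishing cohomology in degree `n` sees nothing of the field in degree `n`; otherwise
the field in degree `n` is a retract. -/
theorem dichotomy (M : Dual.D K) (n : ℤ) :
    (Subsingleton (Dual.HD K M n) ∧ (∀ φ : M ⟶ DRing.toD (oneC K n), φ = 0) ∧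
      (∀ φ : DRing.toD (oneC K n) ⟶ M, φ = 0)) ∨
    (¬ Subsingleton (Dual.HD K M n) ∧
      ∃ (s : DRing.toD (oneC K n) ⟶ M) (r : M ⟶ DRing.toD (oneC K n)), s ≫ r = 𝟙 _) := by
  obtain ⟨F, ⟨eF⟩⟩ : ∃ F : DRing.Cx K, Nonempty (DRing.toD F ≅ M) :=
    ⟨_, ⟨(DerivedCategory.Q (C := ModuleCat.{u} K)).objObjPreimageIso M⟩⟩
  obtain ⟨e₀⟩ := nonempty_zeroD_iso F
  let G := zeroD F
  let e : DRing.toD G ≅ M := e₀ ≪≫ eF
  let eH : (DerivedCategory.homologyFunctor (ModuleCat.{u} K) n).obj M ≅ F.homology n :=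
    (DerivedCategory.homologyFunctor _ n).mapIso eF.symm ≪≫ (DerivedCategory.homologyFunctorFactors _ n).app F
  by_cases h : Subsingleton (G.X n)
  · refine Or.inl ⟨eH.toLinearEquiv.toEquiv.subsingleton_congr.2 h, fun φ => ?_, fun φ => ?_⟩
    · obtain ⟨f, hf⟩ := DMod.exists_map_eq' (e.hom ≫ φ)
      rw [eq_zero_of_subsingleton f n (fun i hi => subsingleton_oneC hi) (Or.inl h), Functor.map_zero] at hf
      rw [← cancel_epi e.hom, ← hf, comp_zero]
    · obtain ⟨f, hf⟩ := DMod.exists_map_eq (φ ≫ e.inv)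
      rw [eq_zero_of_subsingleton' f n (fun i hi => subsingleton_oneC hi) h, Functor.map_zero] at hf
      rw [← cancel_mono e.inv, ← hf, zero_comp]
  · refine Or.inr ⟨fun h' => h (eH.toLinearEquiv.toEquiv.subsingleton_congr.1 h'), ?_⟩
    haveI : Nontrivial (G.X n) := not_subsingleton_iff_nontrivial.1 h
    obtain ⟨x, hx⟩ := exists_ne (0 : G.X n)
    obtain ⟨g, hg⟩ := (LinearMap.toSpanSingleton K (G.X n) x).exists_leftInverse_of_injective
      (LinearMap.ker_toSpanSingleton (M := ↥(G.X n)) K hx)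
    let σ : ModuleCat.of K K ⟶ G.X n := ModuleCat.ofHom (LinearMap.toSpanSingleton K (G.X n) x)
    let ρ : G.X n ⟶ ModuleCat.of K K := ModuleCat.ofHom g
    let s : oneC K n ⟶ G := HomologicalComplex.mkHomFromSingle σ fun j _ => by
      rw [zeroD_d, comp_zero]
    let r : G ⟶ oneC K n := HomologicalComplex.mkHomToSingle ρ fun i _ => by
      rw [zeroD_d, zero_comp]
    have hsr : s ≫ r = 𝟙 _ := by
      refine HomologicalComplex.from_single_hom_ext ?_
      simp only [HomologicalComplex.comp_f, s, r, HomologicalComplex.mkHomFromSingle_f,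
        HomologicalComplex.mkHomToSingle_f, HomologicalComplex.id_f, Category.assoc]
      rw [reassoc_of% (show σ ≫ ρ = 𝟙 _ from ModuleCat.hom_ext hg)]
      simp
    refine ⟨DerivedCategory.Q.map s ≫ e.hom, e.inv ≫ DerivedCategory.Q.map r, ?_⟩
    rw [Category.assoc, e.hom_inv_id_assoc, ← Functor.map_comp, hsr, CategoryTheory.Functor.map_id]

/-- The structure sheaf of a point in one degree. -/
theorem nonempty_oneD_iso (K : Type u) [Field K] (n : ℤ) :
    Nonempty (TwistBC9.oneD (Spec (CommRingCat.of K)) n ≅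
      (DPerf.tildeDD (CommRingCat.of K)).obj (DRing.toD (oneC K n))) := by
  obtain ⟨o⟩ := FMAdj9.nonempty_oneD_tilde (CommRingCat.of K) n
  exact ⟨o ≪≫ (DPerf.tildeDD (CommRingCat.of K)).mapIso
    ((DerivedCategory.singleFunctorIsoCompQ (ModuleCat.{u} K) n).app (ModuleCat.of K K))⟩

/-- On a point cohomology in degree `n` is tested by the structure sheaf in degree `n`. -/
theorem dichotomy_point (L : DCoh.D (Spec (CommRingCat.of K))) (hL : DCoh.IsQCohD L) (n : ℤ) :
    (IsZero (DCoh.HD L n) ∧ (∀ φ : L ⟶ TwistBC9.oneD _ n, φ = 0) ∧ (∀ φ : TwistBC9.oneD _ n ⟶ L, φ = 0)) ∨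
    (¬ IsZero (DCoh.HD L n) ∧
      ∃ (s : TwistBC9.oneD _ n ⟶ L) (r : L ⟶ TwistBC9.oneD _ n), s ≫ r = 𝟙 _) := by
  haveI : PreservesFiniteLimits (tilde.functor (CommRingCat.of K)) := M1.tilde_preservesFiniteLimits
  obtain ⟨M, ⟨eM⟩⟩ := DQC.exists_iso_of_isQCohD L hL
  obtain ⟨o⟩ := nonempty_oneD_iso K n
  let T := DPerf.tildeDD (CommRingCat.of K)
  let eH : DCoh.HD L n ≅ (tilde.functor (CommRingCat.of K)).obj ((DerivedCategory.homologyFunctor (ModuleCat.{u} K) n).obj M) :=
    (DerivedCategory.homologyFunctor _ n).mapIso eM.symm ≪≫ DPerf.hdTildeIso (R := CommRingCat.of K) M n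
  rcases dichotomy M n with ⟨h, h₁, h₂⟩ | ⟨h, s, r, hsr⟩
  · haveI : Subsingleton ↑((DerivedCategory.homologyFunctor (ModuleCat.{u} K) n).obj M) := h
    refine Or.inl ⟨IsZero.of_iso ((tilde.functor (CommRingCat.of K)).map_isZero
      (ModuleCat.isZero_of_subsingleton _)) eH, fun φ => ?_, fun φ => ?_⟩
    · obtain ⟨g, hg⟩ := (DQC.bijective_map M (DRing.toD (oneC K n))).2 (eM.hom ≫ φ ≫ o.hom)
      simp only at hg
      rw [h₁ g, Functor.map_zero] at hg
      rw [← cancel_epi eM.hom, ← cancel_mono o.hom, Category.assoc, ← hg, comp_zero, zero_comp]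
    · obtain ⟨g, hg⟩ := (DQC.bijective_map (DRing.toD (oneC K n)) M).2 (o.inv ≫ φ ≫ eM.inv)
      simp only at hg
      rw [h₂ g, Functor.map_zero] at hg
      rw [← cancel_epi o.inv, ← cancel_mono eM.inv, Category.assoc, ← hg, comp_zero, zero_comp]
  · refine Or.inr ⟨fun hz => h ((DMod.isZero_iff_subsingleton _).1 (DPerf.isZero_of_tilde (hz.of_iso eH.symm))),
      o.hom ≫ T.map s ≫ eM.hom, eM.inv ≫ T.map r ≫ o.inv, ?_⟩
    simp only [Category.assoc, Iso.hom_inv_id_assoc]
    rw [← Category.assoc (T.map s), ← Functor.map_comp, hsr, CategoryTheory.Functor.map_id]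
    simp

theorem isZero_iff_hom_to (L : DCoh.D (Spec (CommRingCat.of K))) (hL : DCoh.IsQCohD L) (n : ℤ) :
    IsZero (DCoh.HD L n) ↔ ∀ φ : L ⟶ TwistBC9.oneD _ n, φ = 0 := by
  rcases dichotomy_point L hL n with ⟨h, h₁, -⟩ | ⟨h, s, r, hsr⟩
  · exact iff_of_true h h₁
  · refine iff_of_false h fun h₁ => h ?_
    have h0 : (𝟙 (TwistBC9.oneD (Spec (CommRingCat.of K)) n)) = 0 := by rw [← hsr, h₁ r, comp_zero]
    rcases dichotomy_point L hL n with ⟨h', -, -⟩ | ⟨-, s', r', h'⟩
    · exact h'
    · exfalso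
      have hz : IsZero (TwistBC9.oneD (Spec (CommRingCat.of K)) n) := (IsZero.iff_id_eq_zero _).2 h0
      have := ((DerivedCategory.homologyFunctor _ n).map_isZero hz).of_iso
        ((DerivedCategory.singleFunctorCompHomologyFunctorIso _ n).app (Coh.structureModule _)).symm
      have hsub := ModuleCat.subsingleton_of_isZero
        ((SheafOfModules.evaluation _ (Opposite.op ⊤)).map_isZero this)
      have hnt : Nontrivial (Coh.Γtop (Spec (CommRingCat.of K))) :=
        (Scheme.ΓSpecIso (CommRingCat.of K)).commRingCatIsoToRingEquiv.toEquiv.nontrivial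
      exact not_subsingleton (Coh.Γtop (Spec (CommRingCat.of K))) hsub

theorem isZero_iff_hom_from (L : DCoh.D (Spec (CommRingCat.of K))) (hL : DCoh.IsQCohD L) (n : ℤ) :
    IsZero (DCoh.HD L n) ↔ ∀ φ : TwistBC9.oneD _ n ⟶ L, φ = 0 := by
  rcases dichotomy_point L hL n with ⟨h, -, h₂⟩ | ⟨h, s, r, hsr⟩
  · exact iff_of_true h h₂
  · refine iff_of_false h fun h₂ => h ((isZero_iff_hom_to L hL n).2 fun φ => ?_)
    have h0 : (𝟙 (TwistBC9.oneD (Spec (CommRingCat.of K)) n)) = 0 := by rw [← hsr, h₂ s, zero_comp]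
    rw [← Category.comp_id φ, h0, comp_zero]

end Groth.Agent.PtSky9
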