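import Groth.Agent.Lib.DPerf.OneDegree
import Groth.Agent.Lib.DBaseChange.Fibre
import Groth.Agent.Lib.DMon9.LpullIso
import Groth.Agent.Lib.DMon9.LPExtra
import Groth.Agent.Lib.DMon9.ProjQC

/-! Fibre cohomology and stalks. -/

set_option autoImplicit false
set_option linter.style.haveILetI false
set_option linter.unusedSectionVars false
set_option backward.isDefEq.respectTransparency false
set_option backward.isDefEq.respectTransparency.types false
set_option maxHeartbeats 1600000

universe u

open CategoryTheory CategoryTheory.Limits AlgebraicGeometry Opposite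

attribute [local instance] HasDerivedCategory.standard

noncomputable section

namespace Groth.Agent.PtSky9

open DMon9 DPerf.RankSC
open DPerf (tildeX)

variable {X : Scheme.{u}}

theorem finite_homology_ext {R : CommRingCat.{u}} (P : DRing.Cx R) (hF : DRing.TermwiseFiniteFree P)
    {K : Type u} [Field K] (ψ : R →+* K) (l : ℤ) : Module.Finite K (((extCx ψ).obj P).homology l) := by
  haveI := (hF l).1
  haveI := finite_ext_X P ψ l
  haveI : Module.Finite K (((extCx ψ).obj P).cycles l) :=
    Module.Finite.of_injective (((extCx ψ).obj P).iCycles l).hom (DMod.iCycles_injective _ l)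
  exact Module.Finite.of_surjective (((extCx ψ).obj P).homologyπ l).hom (DMod.homologyπ_surjective _ l)

/-- Vanishing of fibre cohomology depends on the prime only. -/
theorem subsingleton_congr_ker {R : CommRingCat.{u}} [Nontrivial R] (P : DRing.Cx R)
    (hF : DRing.TermwiseFiniteFree P) {K K' : Type u} [Field K] [Field K'] (ψ : R →+* K) (ψ' : R →+* K')
    (z : PrimeSpectrum R) (h : z.asIdeal = RingHom.ker ψ) (h' : z.asIdeal = RingHom.ker ψ') (l : ℤ) :
    Subsingleton (((extCx ψ).obj P).homology l) ↔ Subsingleton (((extCx ψ').obj P).homology l) := by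
  haveI := finite_homology_ext P hF ψ l
  haveI := finite_homology_ext P hF ψ' l
  rw [← Module.finrank_zero_iff (R := K), ← Module.finrank_zero_iff (R := K'),
    DPerf.finrank_homology_congr_ker hF ψ ψ' z h h' l]

/-- Vanishing fibre cohomology kills the stalk. -/
theorem stalk_of_betti {s : Set ℤ} {E : DCoh.D X} (h : DPerf.Approx s E) (m l : ℤ) (hs : Set.Ici m ⊆ s)
    (hl : m < l) (x : X) [DCoh.HasLpull (X.fromSpecResidueField x)] (hb : PerfD.betti E x l = 0) :
    Subsingleton ((DCoh.HD E l).presheaf.stalk x) := by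
  obtain ⟨R, j, hj, P, a, b, hxj, hP, hF, α, hα⟩ := DPerf.exists_free_chart h x
  obtain ⟨z, rfl⟩ := hxj
  haveI : Nontrivial R := PrimeSpectrum.nontrivial z
  obtain ⟨φ, hφ, hker⟩ := DPerf.exists_chart_lift j z (Field.toIsField (X.residueField (j z)))
    (X.fromSpecResidueField (j z)) (fun p => Scheme.fromSpecResidueField_apply _ _)
  rw [DPerf.betti_eq (j z) j P hP hF α hα φ hφ l m hs hl] at hb
  haveI := finite_homology_ext P hF (Spec.preimage φ).hom l
  have h0 : Subsingleton (((extCx (Spec.preimage φ).hom).obj P).homology l) := Module.finrank_zero_iff.1 hb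
  let A := ((Spec R).presheaf.stalk z : Type u)
  letI : Algebra R A := (StructureSheaf.toStalk R z).hom.toAlgebra
  haveI : IsLocalization.AtPrime A z.asIdeal := by
    exact (inferInstance : IsLocalization.AtPrime ((Spec.structureSheaf R).presheaf.stalk z) z.asIdeal)
  let β := IsLocalRing.residue A
  let ψ : R →+* IsLocalRing.ResidueField A := β.comp (algebraMap R A)
  have hψ : z.asIdeal = RingHom.ker ψ := by
    rw [← IsLocalization.AtPrime.under_maximalIdeal A z.asIdeal, ← RingHom.comap_ker,
      IsLocalRing.ker_residue]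
  let Q := (extCx (algebraMap R A)).obj P
  have hQ : DRing.TermwiseFiniteFree Q := DBaseChange.termwiseFiniteFree_ext (algebraMap R A) hF
  let eQ : (extCx ψ).obj P ≅ (extCx β).obj Q :=
    HomologicalComplex.Hom.isoOfComponents
      (fun l => (ModuleCat.extendScalarsComp (algebraMap R A) β).app (P.X l))
      (fun l m _ => ((ModuleCat.extendScalarsComp (algebraMap R A) β).hom.naturality (P.d l m)).symm)
  have hQl : Subsingleton (Q.homology l) := by
    rw [DMod.subsingleton_homology_iff Q (i := l - 1) (k := l + 1) (by simp) (by simp)]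
    refine (DBaseChange.split_of_fibreExact Q hQ l (DBaseChange.fibreExact_of_ext Q l ?_)).1
    exact (HomologicalComplex.homologyMapIso eQ l).toLinearEquiv.toEquiv.subsingleton_congr.1
      ((subsingleton_congr_ker P hF _ ψ z hker hψ l).1 h0)
  have := ModuleCat.preservesFiniteLimits_extendScalars_of_flat.{u}
    (f := algebraMap R A) (RingHom.flat_algebraMap_iff.2 (IsLocalization.flat A z.asIdeal.primeCompl))
  let H := P.homology l
  haveI : IsScalarTower R A ((tilde H).presheaf.stalk z) :=
    ⟨fun r a w => by rw [Algebra.smul_def, mul_smul]; rfl⟩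
  haveI : IsLocalizedModule z.asIdeal.primeCompl (tilde.toStalk H z).hom :=
    inferInstanceAs (IsLocalizedModule z.asIdeal.primeCompl (StructureSheaf.toStalkₗ ..))
  let e₁ : Q.homology l ≃ₗ[A] (tilde H).presheaf.stalk z :=
    (((P.sc l).mapHomologyIso (ModuleCat.extendScalars (algebraMap R A))).toLinearEquiv.trans
      (FlatCxLib.extEquiv A H)).trans
        (IsLocalizedModule.isBaseChange z.asIdeal.primeCompl A (tilde.toStalk H z).hom).equiv
  haveI : Subsingleton ((tilde H).presheaf.stalk z) := e₁.symm.toEquiv.subsingleton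
  haveI : IsIso ((DerivedCategory.homologyFunctor _ l).map α) :=
    DPerf.isIso_of_dcond (m := m) (fun n hn => hα n (hs hn)) hl
  let eH : (DCoh.HD E l).restrict j ≅ (tilde.functor R).obj H :=
    (DPerf.hdResIso j E l).symm ≪≫ (asIso ((DerivedCategory.homologyFunctor _ l).map α)).symm ≪≫
      (DerivedCategory.homologyFunctorFactors _ l).app _ ≪≫ (P.sc l).mapHomologyIso (tilde.functor R)
  have hst : RHom.StalkZero z ((DCoh.HD E l).restrict j) :=
    RHom.stalkZero_iso eH.symm (by
      haveI : Subsingleton ((M1.stalkAb z).obj ((tilde.functor R).obj H)) :=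
        (inferInstance : Subsingleton ((tilde H).presheaf.stalk z))
      exact AddCommGrpCat.isZero_of_subsingleton _)
  exact AddCommGrpCat.subsingleton_of_isZero ((RHom.stalkZero_restrict_iff j z _).1 hst)

/-- A fibre functor that vanishes gives a zero Betti number. -/
theorem betti_of_isZero (E : DCoh.D X) (x : X) [DCoh.HasLpull (X.fromSpecResidueField x)] (l : ℤ)
    (h : IsZero (DCoh.HD ((lP (X.fromSpecResidueField x)).obj E) l)) : PerfD.betti E x l = 0 := by
  obtain ⟨n⟩ := nonempty_lpull_natIso_lP (X.fromSpecResidueField x)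
  have h' : IsZero (DCoh.HD ((DCoh.Lpull (X.fromSpecResidueField x)).obj E) l) :=
    h.of_iso ((DerivedCategory.homologyFunctor _ l).mapIso (n.app E))
  haveI : Nontrivial (Coh.Γtop (Spec (X.residueField x))) :=
    (Scheme.ΓSpecIso (X.residueField x)).commRingCatIsoToRingEquiv.toEquiv.nontrivial
  exact @Module.finrank_zero_of_subsingleton _ _ _ _ _ _
    (ModuleCat.subsingleton_of_isZero ((SheafOfModules.evaluation _ (op ⊤)).map_isZero h'))

/-- The fibre of a free chart. -/
theorem nonempty_fibre_chart {E : DCoh.D X} {K R : CommRingCat.{u}} (g : Spec K ⟶ X) (j : Spec R ⟶ X)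
    [IsOpenImmersion j] (P : DRing.Cx R) {a b : ℤ} (hP : DRing.VanishesOutside P a b)
    (hF : DRing.TermwiseFiniteFree P) (α : DCoh.toD (Spec R) ((tildeX R).obj P) ≅ (DPerf.resD j).obj E)
    (φ : R ⟶ K) (hφ : Spec.map φ ≫ j = g) (i : ℤ) :
    Nonempty (DCoh.HD ((lP g).obj E) i ≅ (tilde.functor K).obj (((extCx φ.hom).obj P).homology i)) := by
  haveI := KFlat.Sch.hasLpull (Spec.map φ)
  obtain ⟨n⟩ := nonempty_lpull_natIso_lP (Spec.map φ)
  have hflat : ∀ l, KFlat.IsFlat (KFlat.Sch.TX (Spec R)) (((tildeX R).obj P).X l) := fun l =>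
    (KFlat.Sch.isFlat_iff _).2 (have := (hF l).2; DPerf.isFlat_tilde (N := P.X l))
  haveI : ((tildeX R).obj P).IsStrictlyLE b := (CochainComplex.isStrictlyLE_iff _ b).2 fun l hl =>
    (tilde.functor R).map_isZero (hP l (Or.inr hl))
  have hA := KFlat.Sch.isAdapted_of_boundedAbove ((tildeX R).obj P) b hflat
  let eC : ((Scheme.Modules.pullback (Spec.map φ)).mapHomologicalComplex (ComplexShape.up ℤ)).obj
      ((tildeX R).obj P) ≅ (tildeX K).obj ((extCx φ.hom).obj P) :=
    HomologicalComplex.Hom.isoOfComponents (fun l => (M1.tildePullbackIso φ).app (P.X l))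
      (fun l l' _ => ((M1.tildePullbackIso φ).hom.naturality (P.d l l')).symm)
  let Q' := (extCx φ.hom).obj P
  let e1 : DCoh.HD (DCoh.toD (Spec K) ((tildeX K).obj Q')) i ≅ (tilde.functor K).obj (Q'.homology i) :=
    (DerivedCategory.homologyFunctorFactors _ i).app _ ≪≫ (Q'.sc i).mapHomologyIso (tilde.functor K)
  exact ⟨(DerivedCategory.homologyFunctor _ i).mapIso (((lPComp (Spec.map φ) j hφ).app E).symm ≪≫
    (lP (Spec.map φ)).mapIso ((lPRes j).app E ≪≫ α.symm) ≪≫ (n.app _).symm ≪≫
    KFlat.Sch.lpullObjIso (Spec.map φ) _ hA ≪≫ DerivedCategory.Q.mapIso eC) ≪≫ e1⟩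

end Groth.Agent.PtSky9
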